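import Cfsg.Agent.H73.Bender.Setting
import Cfsg.Agent.Coprime.SE.Pairs
import Cfsg.Agent.Coprime.Action

/-!
Two small facts on strongly embedded actions: normal subgroups fixing one point fix all, and swappers
normalise the stabiliser of their pair.
-/

set_option autoImplicit false
set_option linter.style.haveILetI false

namespace Cfsg.Agent.H26.Bender

open Subgroup MulAction
open Cfsg.Agent.H39
open Cfsg.Agent.H29.Bender (IsSyl exists_isSyl_ge exists_involution_of_sq)
open Cfsg.Agent.H73.Bender

variable {G : Type*} [Group G] {Ω : Type*} [MulAction G Ω] {S : Subgroup G} {C : Set Ω}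

/-- A subgroup normalised by a transitive group fixes every point once it fixes one. -/
theorem fix_all_of_normal {T N : Subgroup G} {L : Set Ω} (hT : SE T L)
    (hN : T ≤ normalizer (N : Set G)) {c : Ω} (hc : c ∈ L) (hfix : ∀ g ∈ N, g • c = c) :
    ∀ g ∈ N, ∀ z ∈ L, g • z = z := by
  intro g hg z hz
  obtain ⟨h, hh, rfl⟩ := hT.trans hc hz
  have := hfix _ ((Subgroup.mem_normalizer_iff''.mp (hN hh) g).mp hg)
  rw [mul_smul, mul_smul, inv_smul_eq_iff] at this
  exact this

/-- An involution swapping two points normalises their stabiliser. -/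
theorem mem_normalizer_pair {w : G} (hw : w ∈ S) (hw2 : orderOf w = 2) {x y : Ω}
    (hwx : w • x = y) : w ∈ normalizer (pair S x y : Set G) := by
  have hwy := swap_symm hw2 hwx
  have key : ∀ g, g ∈ pair S x y → w * g * w⁻¹ ∈ pair S x y := fun g hg => by
    obtain ⟨h, hx, hy⟩ := mem_pair.mp hg
    refine mem_pair.mpr ⟨conj_mem_of_mem hw h, ?_, ?_⟩ <;>
      simp [mul_smul, inv_eq_of_orderOf_eq_two hw2, hwx, hwy, hx, hy]
  rw [Subgroup.mem_normalizer_iff]
  refine fun g => ⟨key g, fun h => ?_⟩
  have := key _ h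
  rwa [inv_eq_of_orderOf_eq_two hw2, ← mul_assoc, ← mul_assoc, mul_self_of_orderOf_eq_two hw2,
    one_mul, mul_assoc, mul_self_of_orderOf_eq_two hw2, mul_one] at this

end Cfsg.Agent.H26.Bender
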