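import Cfsg.Agent.H26.Bender.Bound

/-!
CLIMB of notes/bender2.md, section 4: a `p`-group fixing a point of a line of its normaliser grows
to a Sylow subgroup of the kernel of such a line, keeping a given `2`-group and a given `p`-group in
the normaliser and enlarging the line.
-/

set_option autoImplicit false
set_option linter.style.haveILetI false

namespace Cfsg.Agent.H26.Bender

open Subgroup MulAction
open scoped Pointwise
open Cfsg.Agent.H39
open Cfsg.Agent.H29.Bender (IsSyl exists_isSyl_ge exists_involution_of_sq)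
open Cfsg.Agent.H73.Bender

variable {G : Type*} [Group G] {Ω : Type*} [MulAction G Ω] {S : Subgroup G} {C : Set Ω}

/-- The normaliser of `U` in `S`. -/
abbrev nor (S U : Subgroup G) : Subgroup G := S ⊓ normalizer (U : Set G)

/-- The line of the normaliser of `U`. -/
abbrev lineOf (S : Subgroup G) (C : Set Ω) (U : Subgroup G) : Set Ω := points (nor S U) C

theorem points_mono {T T' : Subgroup G} (h : T ≤ T') : points T C ⊆ points T' C :=
  fun _ ⟨hx, t, ht, ht2, htx⟩ => ⟨hx, t, h ht, ht2, htx⟩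

variable [Finite G] {p : ℕ} [Fact p.Prime]

/-- An element squaring into an odd subgroup generates with it no further involution. -/
theorem odd_card_sup (hp : Odd p) {K Q : Subgroup G} (hK : Odd (Nat.card K)) (hQ : IsPGroup p Q)
    (hQK : Q ≤ normalizer (K : Set G)) : Odd (Nat.card (K ⊔ Q : Subgroup G)) := by
  rw [← Nat.not_even_iff_odd, even_iff_two_dvd]
  intro h
  obtain ⟨i, hi⟩ := exists_prime_orderOf_dvd_card' 2 h
  rw [← Subgroup.orderOf_coe] at hi
  have hmem : (i : G) ∈ ((K : Set G) * (Q : Set G)) := by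
    rw [← Subgroup.coe_mul_of_right_le_normalizer_left K Q hQK]; exact i.2
  obtain ⟨k, hk, q, hq, hkq⟩ := Set.mem_mul.mp hmem
  have h2 := mul_self_of_orderOf_eq_two hi
  have hq2 : q * q ∈ K := by
    have hc : q * k * q⁻¹ ∈ K := (Subgroup.mem_normalizer_iff.mp (hQK hq) k).mp hk
    have e : q * q = (q * k * q⁻¹)⁻¹ * k⁻¹ * ((k * q) * (k * q)) := by group
    rw [e, hkq, h2, mul_one]
    exact mul_mem (inv_mem hc) (inv_mem hk)
  obtain ⟨n, hn⟩ : Odd (orderOf q) := H29.Bender.odd_orderOf_of_isPGroup hQ hp hq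
  have hqK : q ∈ K := by
    have h1 : q ^ (2 * n + 2) = q := by rw [pow_succ, ← hn, pow_orderOf_eq_one, one_mul]
    rw [← h1, show 2 * n + 2 = 2 * (n + 1) by ring, pow_mul, pow_two]
    exact pow_mem hq2 _
  have hiK : (i : G) ∈ K := hkq ▸ mul_mem hk hqK
  have := hK.of_dvd_nat (orderOf_dvd_natCard (⟨_, hiK⟩ : K))
  rw [Subgroup.orderOf_mk, hi] at this
  exact absurd this (by decide)

/-- The intersection of a Sylow subgroup with a subgroup it normalises is a Sylow subgroup. -/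
theorem isSyl_inf {K Q : Subgroup G} (hQK : Q ≤ normalizer (K : Set G))
    (hQ : IsSyl p (K ⊔ Q) Q) : IsSyl p K (K ⊓ Q) := by
  refine ⟨inf_le_left, hQ.pgroup.to_le inf_le_right, fun P hP hPp => ?_⟩
  obtain ⟨Q', hPQ', hQ'⟩ := exists_isSyl_ge (hP.trans le_sup_left : P ≤ K ⊔ Q) hPp
  obtain ⟨d, hd, hdQ⟩ := hQ'.exists_conj hQ
  have hdK : d ∈ normalizer (K : Set G) := (sup_le Subgroup.le_normalizer hQK) hd
  have hle : P.map (MulAut.conj d).toMonoidHom ≤ K ⊓ Q :=
    le_inf (H29.Bender.map_conj_le hP hdK) (hdQ ▸ Subgroup.map_mono hPQ')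
  rw [← card_map_of_injective (K := P) (f := (MulAut.conj d).toMonoidHom) (MulAut.conj d).injective]
  exact Nat.le_of_dvd Nat.card_pos (card_dvd_of_le hle)

/-- Frattini for lines: the points of `T` are points of the normaliser of a Sylow subgroup of the
kernel of `T`. -/
theorem points_le_normalizer_syl (hS : SE S C) {T : Subgroup G} (hTS : T ≤ S) {a b : Ω}
    (ha : a ∈ points T C) (hb : b ∈ points T C) (hab : a ≠ b) {U : Subgroup G}
    (hU : IsSyl p (kernel T (points T C)) U) : points T C ⊆ points (nor S U) C := by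
  have hT := hS.line hTS ha hb hab
  rintro x ⟨hxC, t, ht, ht2, htx⟩
  have hxL : x ∈ points T C := ⟨hxC, t, ht, ht2, htx⟩
  have htK := le_normalizer_kernel hT ht
  obtain ⟨d, hd, hdU⟩ := hU.exists_mul_mem_normalizer htK
  have hdT := (mem_kernel.mp hd).1
  have hgT : d * t ∈ T := mul_mem hdT ht
  have hg2 : d * t * (d * t) ∈ kernel T (points T C) := by
    have e : d * t * (d * t) = d * (t * d * t⁻¹) * (t * t) := by group
    rw [e, mul_self_of_orderOf_eq_two ht2, mul_one]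
    exact mul_mem hd ((Subgroup.mem_normalizer_iff.mp htK d).mp hd)
  have hgK : d * t ∉ kernel T (points T C) := fun h => by
    have htk : t ∈ kernel T (points T C) := by simpa using mul_mem (inv_mem hd) h
    have := hT.odd_kernel.of_dvd_nat (orderOf_dvd_natCard (⟨t, htk⟩ : kernel T (points T C)))
    rw [Subgroup.orderOf_mk, ht2] at this
    exact absurd this (by decide)
  obtain ⟨k, hk⟩ := exists_involution_of_sq hT.odd_kernel hg2 hgK
  refine ⟨hxC, _, ⟨hTS (mul_mem hgT (pow_mem (mul_mem hgT hgT) k)),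
    mul_mem hdU (pow_mem (mul_mem hdU hdU) k)⟩, hk, ?_⟩
  rw [mul_smul, (mem_kernel.mp (pow_mem hg2 k)).2 x hxL, mul_smul, htx, (mem_kernel.mp hd).2 x hxL]

/-- CLIMB. -/
theorem climb (hS : SE S C) (hp : Odd p) {A : Subgroup G} (hA : IsPGroup 2 A) {U Q : Subgroup G}
    (hQ : IsPGroup p Q) (hUQ : U ≤ Q) (hQT : Q ≤ nor S U) (hAT : A ≤ nor S U)
    (hAQ : A ≤ normalizer (Q : Set G)) {c c' : Ω} (hc : c ∈ lineOf S C U)
    (hc' : c' ∈ lineOf S C U) (hne : c' ≠ c) (hUc : ∀ g ∈ U, g • c = c) :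
    ∃ U' Q', U ≤ U' ∧ Q ≤ Q' ∧ U' ≤ Q' ∧ IsPGroup p Q' ∧ Q' ≤ nor S U' ∧ A ≤ nor S U' ∧
      A ≤ normalizer (Q' : Set G) ∧ lineOf S C U ⊆ lineOf S C U' ∧
      IsSyl p (kernel (nor S U') (lineOf S C U')) U' := by
  induction hn : Nat.card G - Nat.card U using Nat.strong_induction_on generalizing U Q with
  | _ n ih =>
  have hT : SE (nor S U) (lineOf S C U) := hS.line inf_le_left hc' hc hne
  set K := kernel (nor S U) (lineOf S C U) with hK
  have hUK : U ≤ K := fun g hg => mem_kernel.mpr ⟨hQT (hUQ hg),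
    fix_all_of_normal hT inf_le_right hc hUc g hg⟩
  have hTK := le_normalizer_kernel hT
  haveI : Group.IsSolvable A := by
    haveI := hA.isNilpotent; infer_instance
  have hodd := odd_card_sup hp hT.odd_kernel hQ (hQT.trans hTK)
  obtain ⟨Q₁, hQQ₁, hAQ₁⟩ := Coprime.exists_invariant_sylow_ge (A := A) (K := K ⊔ Q)
    (fun a ha => normalizer_inf_normalizer_le_normalizer_sup K Q ⟨hTK (hAT ha), hAQ ha⟩)
    (by
      obtain ⟨k, hk⟩ := IsPGroup.iff_card.mp hA
      rw [hk]; exact hodd.coprime_two_left.pow_left k)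
    (Or.inl inferInstance) p (le_sup_right : Q ≤ K ⊔ Q) hQ hAQ
  set Q' : Subgroup G := (Q₁ : Subgroup (K ⊔ Q : Subgroup G)).map (K ⊔ Q).subtype with hQ'
  have hQ'T : Q' ≤ nor S U := (map_subtype_le _).trans (sup_le inf_le_left hQT)
  have hQ's : IsSyl p (K ⊔ Q') Q' := by
    have h : K ⊔ Q' = K ⊔ Q :=
      le_antisymm (sup_le le_sup_left (map_subtype_le _)) (sup_le le_sup_left (hQQ₁.trans le_sup_right))
    rw [h]; exact H29.Bender.sylow_map Q₁
  have hU₁ : IsSyl p K (K ⊓ Q') := isSyl_inf (hQ'T.trans hTK) hQ's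
  have hUU₁ : U ≤ K ⊓ Q' := le_inf hUK (hUQ.trans hQQ₁)
  rcases eq_or_lt_of_le hUU₁ with heq | hlt
  · exact ⟨U, Q', le_rfl, hQQ₁, hUQ.trans hQQ₁, Q₁.2.map _, hQ'T, hAT, hAQ₁, le_rfl,
      by rw [← heq] at hU₁; exact hU₁⟩
  have hsub : lineOf S C U ⊆ lineOf S C (K ⊓ Q') :=
    points_le_normalizer_syl hS inf_le_left hc' hc hne hU₁
  have hQ'1 : Q' ≤ nor S (K ⊓ Q') := le_inf (hQ'T.trans inf_le_left) fun g hg => by
    rw [Subgroup.mem_normalizer_iff]
    intro x
    rw [mem_inf, mem_inf]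
    exact and_congr (Subgroup.mem_normalizer_iff.mp (hTK (hQ'T hg)) x)
      (Subgroup.mem_normalizer_iff.mp (Subgroup.le_normalizer hg) x)
  have hA1 : A ≤ nor S (K ⊓ Q') := le_inf (hAT.trans inf_le_left) fun g hg => by
    rw [Subgroup.mem_normalizer_iff]
    intro x
    rw [mem_inf, mem_inf]
    exact and_congr (Subgroup.mem_normalizer_iff.mp (hTK (hAT hg)) x)
      (Subgroup.mem_normalizer_iff.mp (hAQ₁ hg) x)
  have hlt' : Nat.card U < Nat.card (K ⊓ Q' : Subgroup G) := by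
    by_contra h
    exact hlt.ne (Subgroup.eq_of_le_of_card_ge hlt.le (not_lt.mp h))
  have hGle : Nat.card (K ⊓ Q' : Subgroup G) ≤ Nat.card G := Subgroup.card_le_card_group _
  subst hn
  obtain ⟨U', Q'', h1, h2, h3, h4, h5, h6, h7, h8, h9⟩ := ih _ (Nat.sub_lt_sub_left (hlt'.trans_le hGle) hlt') (Q₁.2.map _)
    inf_le_right hQ'1 hA1 hAQ₁ (hsub hc) (hsub hc') (fun g hg => (mem_kernel.mp hg.1).2 c hc) rfl
  exact ⟨U', Q'', hUU₁.trans h1, hQQ₁.trans h2, h3, h4, h5, h6, h7, hsub.trans h8, h9⟩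

end Cfsg.Agent.H26.Bender
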